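import Mathlib.Data.Nat.Notation

/-!
Elements of a point stabiliser on 352 vectors acting as generators of a unitary group act on 50 cosets.
-/

set_option autoImplicit false
set_option maxRecDepth 100000

namespace Cfsg.Agent.Fus.HSStab

/-- The elements, as words. -/
def kW : List (List ℕ) := [
  [0, 2, 1, 0, 1, 2, 0, 1, 0, 1, 0, 2, 1, 0, 1, 2, 0, 1, 0, 1, 0, 2, 1, 0, 1, 2, 0, 1, 0, 1, 0, 2, 1, 0, 1, 2, 0, 1, 0, 1, 2, 1, 2, 1, 2, 0, 2, 1, 0, 1, 2, 0, 1, 0, 1, 2, 1, 2, 1, 2, 0, 2, 1, 0, 1, 2, 0, 1, 0, 1, 2, 1, 2, 1, 2, 0, 2, 1, 0, 1, 2, 0, 1, 0, 1, 2, 1, 2, 1, 2, 0, 2, 1, 0, 1, 2, 0, 1, 0, 1, 0, 2, 1, 0, 1, 2, 0, 1, 0, 1, 2, 1, 2, 1, 2, 0, 2, 1, 0, 1, 2, 0, 1, 0, 1, 0, 2, 1, 0, 1,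 2, 0, 1, 0, 1, 2, 1, 2, 1, 2, 0, 2, 1, 0, 1, 2, 0, 1, 0, 1, 2, 1, 2, 1, 2, 0, 2, 1, 0, 1, 2, 0, 1, 0, 1],
  [2, 1, 2, 1, 2, 0, 2, 1, 0, 1, 2, 0, 1, 0, 1, 0, 2, 1, 0, 1, 2, 0, 1, 0, 1, 2, 1, 2, 1, 2, 0, 2, 1, 0, 1, 2, 0, 1, 0, 1, 0, 2, 1, 0, 1, 2, 0, 1, 0, 1, 2, 1, 2, 1, 2, 0, 2, 1, 0, 1, 2, 0, 1, 0, 1, 0, 2, 1, 0, 1, 2, 0, 1, 0, 1, 0, 2, 1, 0, 1, 2, 0, 1, 0, 1, 2, 1, 2, 1, 2, 0, 2, 1, 0, 1, 2, 0, 1, 0, 1, 0, 2, 1, 0, 1, 2, 0, 1, 0, 1, 2, 1, 2, 1, 2, 0, 2, 1, 0, 1, 2, 0, 1, 0, 1, 2, 1, 2, 1, 2, 0, 2, 1, 0, 1, 2, 0, 1, 0, 1, 2, 1, 2, 1, 2, 0, 2, 1, 0, 1, 2, 0, 1, 0, 1, 0, 2, 1, 0, 1, 2, 0, 1, 0, 1, 2, 1, 2, 1, 2, 0, 2, 1, 0, 1, 2, 0, 1, 0, 1, 0, 2, 1, 0, 1, 2, 0, 1, 0, 1, 0, 2, 1, 0,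 1, 2, 0, 1, 0, 1, 0, 2, 1, 0, 1, 2, 0, 1, 0, 1],
  [0, 2, 1, 0, 1, 2, 0, 1, 0, 1, 2, 1, 2, 1, 2, 0, 2, 1, 0, 1, 2, 0, 1, 0, 1, 0, 2, 1, 0, 1, 2, 0, 1, 0, 1, 2, 1, 2, 1, 2, 0, 2, 1, 0, 1, 2, 0, 1, 0, 1, 0, 2, 1, 0, 1, 2, 0, 1, 0, 1, 0, 2, 1, 0, 1, 2, 0, 1, 0, 1, 0, 2, 1, 0, 1, 2, 0, 1, 0, 1, 2, 1, 2, 1, 2, 0, 2, 1, 0, 1, 2, 0, 1, 0, 1, 2, 1, 2, 1, 2, 0, 2, 1, 0, 1, 2, 0, 1, 0, 1, 0, 2, 1, 0, 1, 2, 0, 1, 0, 1, 2, 1, 2, 1, 2, 0, 2, 1, 0, 1, 2, 0, 1, 0, 1, 2, 1, 2, 1, 2, 0, 2, 1, 0, 1, 2, 0, 1, 0, 1, 2, 1, 2, 1, 2, 0, 2, 1, 0, 1, 2, 0, 1, 0, 1, 0, 2, 1, 0, 1, 2, 0, 1, 0, 1, 0, 2, 1, 0, 1, 2, 0, 1, 0, 1, 2, 1, 2, 1, 2, 0, 2, 1, 0, 1, 2, 0, 1, 0, 1, 2, 1, 2, 1, 2]]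

/-- The points of the cosets. -/
def embL : List ℕ := [0, 8, 3, 14, 78, 24, 74, 13, 44, 89, 90, 45, 27, 59, 7, 36, 11, 51, 71, 1, 79, 82, 43, 58, 30, 41, 62, 31, 53, 5, 38, 23, 68, 2, 52, 94, 25, 17, 22, 66, 35, 83, 65, 34, 4, 6, 39, 9, 26, 16]

/-- Representatives of the cosets. -/
def repW : List (List ℕ) := [
  [],
  [5],
  [3, 5],
  [4, 5],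
  [5, 5],
  [4, 3, 5],
  [5, 3, 5],
  [3, 4, 5],
  [4, 4, 5],
  [5, 4, 5],
  [3, 5, 5],
  [3, 4, 3, 5],
  [4, 4, 3, 5],
  [5, 4, 3, 5],
  [4, 5, 3, 5],
  [5, 5, 3, 5],
  [5, 3, 4, 5],
  [3, 4, 4, 5],
  [4, 4, 4, 5],
  [5, 4, 4, 5],
  [3, 5, 4, 5],
  [4, 5, 4, 5],
  [5, 5, 4, 5],
  [4, 3, 4, 3, 5],
  [5, 3, 4, 3, 5],
  [3, 4, 4, 3, 5],
  [4, 4, 4, 3, 5],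
  [3, 5, 4, 3, 5],
  [4, 4, 5, 3, 5],
  [3, 5, 3, 4, 5],
  [5, 5, 3, 4, 5],
  [5, 3, 4, 4, 5],
  [3, 4, 4, 4, 5],
  [5, 4, 4, 4, 5],
  [5, 5, 4, 4, 5],
  [4, 4, 5, 4, 5],
  [4, 5, 5, 4, 5],
  [5, 5, 5, 4, 5],
  [3, 4, 3, 4, 3, 5],
  [5, 4, 3, 4, 3, 5],
  [3, 5, 3, 4, 3, 5],
  [5, 5, 3, 4, 3, 5],
  [5, 4, 4, 4, 3, 5],
  [5, 3, 5, 4, 3, 5],
  [4, 3, 5, 3, 4, 5],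
  [5, 5, 5, 3, 4, 5],
  [3, 5, 3, 4, 4, 5],
  [5, 5, 4, 4, 4, 5],
  [5, 5, 5, 4, 4, 5],
  [5, 3, 4, 3, 4, 3, 5]]

/-- The images of the cosets under a generator. -/
def tab0 : List (ℕ × List ℕ) := [
  (0, [3]),
  (2, []),
  (1, []),
  (7, []),
  (10, []),
  (11, []),
  (6, [4, 4, 3, 4, 3, 4, 4, 3, 4, 4, 4, 3, 4, 4]),
  (3, []),
  (17, []),
  (20, []),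
  (4, []),
  (5, []),
  (25, []),
  (27, []),
  (14, [3, 4, 3, 4, 4, 4, 3, 4, 4, 3, 4, 4, 3, 4, 3, 4, 4, 4, 3]),
  (28, [3, 4, 3, 4, 4, 3, 4, 4, 4, 3]),
  (29, []),
  (8, []),
  (32, []),
  (19, [4, 4, 3, 4, 4]),
  (9, []),
  (21, [4, 4, 4, 3, 4, 4, 4, 3, 4, 4, 3, 4, 4, 3, 4, 3, 4]),
  (22, [3, 4, 3, 4, 4, 4, 3, 4, 3, 4, 3, 4, 4, 3, 4]),
  (38, []),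
  (40, []),
  (12, []),
  (26, [4, 4, 4, 3, 4]),
  (13, []),
  (15, [3, 4, 3, 4, 4, 3, 4, 4, 4, 3]),
  (16, []),
  (30, [3, 4, 3, 4, 4, 4, 3, 4, 3, 4, 3, 4, 4, 3, 4]),
  (46, []),
  (18, []),
  (37, [3, 4, 3, 4, 4, 4, 3, 4, 4, 3, 4, 4, 4, 3, 4, 3, 4, 3]),
  (36, [4, 3, 4, 3, 4, 3, 4, 4, 4, 3, 4, 3, 4, 3, 4, 4, 4, 3, 4, 4]),
  (35, [4, 3, 4, 4, 4, 3, 4, 3, 4, 3, 4, 4, 3, 4, 3]),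
  (34, [4, 4, 3, 4, 4, 4, 3, 4, 3, 4, 3, 4, 4, 4, 3, 4, 3, 4, 3, 4]),
  (33, [3, 4, 3, 4, 4, 4, 3, 4, 4, 3, 4, 4, 3, 4, 3, 4, 4]),
  (23, []),
  (42, [3, 4, 4, 3, 4, 3, 4, 4, 4, 3, 4, 4, 4]),
  (24, []),
  (41, [4, 3, 4, 4, 4]),
  (39, [4, 3, 4, 3, 4, 4, 4, 3, 4, 4, 3]),
  (48, [4, 3, 4, 4, 3, 4, 3, 4, 4, 4]),
  (49, [4, 3, 4, 4, 3, 4, 4, 3, 4, 3, 4, 3, 4, 4, 4, 3, 4, 3, 4]),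
  (47, [3, 4, 3, 4, 3, 4, 4, 3, 4, 4, 4, 3, 4, 3, 4, 3]),
  (31, []),
  (45, [3, 4, 3, 4, 4, 4, 3, 4, 3, 4, 4, 3, 4, 4, 3]),
  (43, [4, 3, 4, 4, 4, 3, 4, 4, 3, 4, 4, 4]),
  (44, [3, 4, 3, 4, 4, 4, 3, 4, 4, 3, 4, 4, 3, 4, 3, 4, 4, 4, 3, 4])]

/-- The images of the cosets under a generator. -/
def tab1 : List (ℕ × List ℕ) := [
  (0, [4]),
  (3, []),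
  (5, []),
  (8, []),
  (4, [3, 4, 4, 4, 3, 4, 4, 4, 3, 4, 3, 4, 3, 4, 4, 4, 3, 4]),
  (12, []),
  (14, []),
  (13, [4, 3, 4, 3, 4, 4, 3, 4, 4, 3, 4, 3, 4, 3, 4]),
  (18, []),
  (21, []),
  (20, [4, 4, 3, 4, 3, 4, 4, 3, 4]),
  (23, []),
  (26, []),
  (7, [4, 4, 4, 3, 4, 4, 4, 3, 4, 3, 4, 4, 3, 4, 4, 3, 4, 3, 4]),
  (28, []),
  (17, [4, 3, 4, 4, 4, 3, 4, 4, 3, 4, 4, 4, 3]),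
  (24, [4, 3, 4, 4, 4, 3, 4, 3, 4, 4, 4]),
  (11, [4, 3, 4, 3, 4, 4, 3, 4, 4]),
  (1, []),
  (22, [4, 4, 3, 4, 3, 4, 3, 4, 4, 3, 4, 3, 4, 4, 4, 3, 4, 3, 4]),
  (10, [3, 4, 3, 4, 4, 3, 4, 3, 4, 3, 4, 4, 3, 4, 3]),
  (35, []),
  (36, []),
  (15, [4, 4, 4, 3, 4, 4, 3, 4, 3, 4, 3, 4, 4, 3]),
  (30, [4, 3, 4, 4, 4, 3, 4, 3, 4, 3, 4, 4, 3, 4, 4, 3, 4, 3, 4, 3, 4]),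
  (16, [4, 3, 4, 3, 4, 3, 4, 4, 3, 4, 4]),
  (2, []),
  (40, [4, 3, 4, 3, 4, 4, 3, 4, 3, 4, 4, 3]),
  (42, [3, 4, 4, 3, 4, 3, 4, 4, 4, 3, 4, 3, 4, 4, 3, 4]),
  (44, []),
  (25, [4, 3, 4, 3, 4, 4, 4, 3, 4, 3, 4, 4, 3, 4, 4, 4, 3]),
  (37, [3, 4, 4, 3, 4, 3, 4, 4, 3, 4, 4, 3, 4, 3, 4, 3, 4, 4]),
  (31, [3, 4, 4, 3, 4, 3, 4, 4, 4, 3, 4, 3, 4, 3, 4, 4, 3, 4]),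
  (34, [4, 4, 4, 3, 4, 3, 4, 4, 4, 3, 4, 4, 4, 3, 4, 4, 3, 4, 3, 4, 4]),
  (33, [4, 4, 3, 4, 4, 3, 4, 4, 4, 3, 4, 4, 4, 3, 4]),
  (41, [4, 3, 4, 4, 4, 3, 4, 3, 4, 3, 4, 3]),
  (45, [4, 3, 4, 3, 4, 3, 4, 4, 3, 4, 4]),
  (43, [4, 4, 3, 4, 3, 4, 4, 4, 3, 4, 3, 4, 4, 3, 4, 4, 3, 4, 3, 4, 3]),
  (29, [3, 4, 3, 4, 3, 4, 3, 4, 4, 4, 3, 4, 4, 3, 4, 3, 4, 3, 4]),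
  (46, [4, 3, 4, 3, 4, 4, 3, 4, 3, 4, 3, 4, 4, 3, 4, 4, 3, 4]),
  (48, [3, 4, 3, 4, 4, 3, 4, 3, 4, 3, 4, 4, 4]),
  (9, [4, 3, 4, 3, 4, 3, 4, 4, 3, 4, 4, 4]),
  (6, [4, 4, 3, 4, 3, 4, 4, 3, 4, 4, 4, 3, 4, 3, 4, 3, 4, 4, 3]),
  (32, [3, 4, 3, 4, 4, 4, 3, 4, 4, 3, 4, 4, 3, 4, 3, 4, 4, 4]),
  (47, [4, 4, 4, 3, 4, 3, 4, 3, 4, 4, 4, 3, 4, 3, 4, 4, 3, 4, 3, 4, 3, 4]),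
  (19, [3, 4, 3, 4, 3, 4, 4, 4, 3, 4, 4, 3, 4, 4, 4, 3, 4, 3]),
  (39, [4, 3, 4, 4, 4, 3, 4, 3, 4, 4, 3, 4, 4]),
  (38, [4, 4, 3, 4, 4, 4, 3, 4, 3, 4, 3, 4, 4, 4, 3]),
  (49, [4, 3, 4, 4, 4, 3, 4, 3, 4, 3, 4, 4, 3, 4, 4, 4]),
  (27, [3, 4, 4, 4, 3, 4, 4, 3, 4, 3, 4, 4, 4, 3, 4])]

/-- The images of the cosets under a generator. -/
def tab2 : List (ℕ × List ℕ) := [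
  (1, []),
  (4, []),
  (6, []),
  (9, []),
  (5, [4, 3, 4, 3, 4, 4, 3, 4, 3, 4, 3, 4, 4, 3, 4, 3]),
  (13, []),
  (15, []),
  (16, []),
  (19, []),
  (22, []),
  (17, [3, 4, 3, 4, 4, 3, 4, 4, 4, 3]),
  (24, []),
  (0, [3, 4, 4]),
  (21, [4, 3, 4, 3, 4, 3, 4, 4, 4, 3, 4, 4, 3, 4, 4]),
  (8, [4, 3, 4, 3, 4, 4, 3, 4, 4, 4, 3, 4, 4]),
  (10, [4, 3, 4, 4, 3, 4]),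
  (30, []),
  (31, []),
  (33, []),
  (34, []),
  (32, [4, 3, 4, 4, 3, 4, 4, 4]),
  (12, [4, 3, 4, 4, 4, 3, 4, 4, 3, 4, 4, 4, 3, 4, 3, 4]),
  (37, []),
  (39, []),
  (41, []),
  (40, [3, 4, 4, 3, 4, 4, 4, 3, 4, 3, 4, 4, 3, 4]),
  (42, []),
  (43, []),
  (25, [4, 4, 3, 4, 3, 4, 4, 3, 4, 4, 4, 3, 4, 4]),
  (29, [4, 3, 4, 3, 4, 3, 4, 4, 3, 4, 4, 3, 4, 3, 4, 3, 4, 4, 4, 3]),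
  (45, []),
  (36, [4, 4, 3, 4, 3, 4, 3, 4, 4, 3, 4, 4, 3, 4, 3, 4, 3, 4, 3]),
  (7, [3, 4, 4, 3, 4, 4, 3, 4, 3, 4, 4, 4, 3, 4, 3, 4]),
  (47, []),
  (48, []),
  (20, [3, 4, 4, 3, 4, 4, 4, 3, 4, 3, 4, 4, 4, 3, 4, 3, 4, 4, 3]),
  (2, [4, 3, 4, 3, 4, 3, 4, 4, 4, 3, 4, 4, 3, 4]),
  (18, [4, 4, 3, 4, 3, 4, 3, 4, 4, 3, 4, 4, 3, 4, 3, 4, 4, 4, 3, 4]),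
  (49, []),
  (11, [3, 4, 4, 4, 3, 4, 3, 4, 3, 4, 3]),
  (44, [3, 4, 3, 4, 4, 4, 3, 4, 3, 4, 4, 3, 4, 4, 4]),
  (27, [3, 4, 4, 3, 4, 4, 4, 3, 4, 3, 4, 4, 3, 4, 4]),
  (14, [4, 4, 4, 3, 4, 3, 4, 4, 4, 3, 4, 4, 4, 3, 4, 3, 4, 4]),
  (23, [4, 4, 4, 3, 4, 3, 4, 3, 4, 4, 3, 4, 4]),
  (46, [3, 4, 4, 3, 4, 4, 4, 3, 4, 4, 4, 3, 4, 3, 4]),
  (35, [4, 3, 4, 3, 4, 4, 3, 4, 4, 4, 3, 4, 4, 4, 3, 4, 3, 4, 4, 3]),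
  (38, [3, 4, 4, 3, 4, 4, 4, 3, 4, 3, 4, 4, 3, 4, 3, 4]),
  (3, [4, 4, 3, 4, 3, 4, 3, 4, 4, 4, 3, 4, 4, 3, 4, 3, 4, 3, 4, 3]),
  (26, [3, 4, 4, 3, 4, 3, 4, 3, 4, 4, 3, 4, 3]),
  (28, [3, 4, 3, 4, 4, 3, 4, 4, 4, 3, 4, 3, 4])]

end Cfsg.Agent.Fus.HSStab
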