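import Cfsg.Agent.Lib.Fus.HSStab.Data
import Cfsg.Agent.Lib.Lie.UThreeFive
import Cfsg.Agent.Lib.Spor.Cos.HSOut.Rep
import Cfsg.Agent.Lib.Spor.Leech.ThreeOrbits

/-!
The stabiliser of a point on 352 vectors in the Higman–Sims group is the unitary group `PSU₃(5)`: some of its
elements act on 50 of the 100 attached vectors as the generators of the unitary group act on cosets.
-/

set_option autoImplicit false
set_option maxRecDepth 100000
set_option maxHeartbeats 1000000

open Cfsg Cfsg.Agent.Spor Cfsg.Agent.Spor.Cos Leech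
open Cfsg.Agent.Lie.UThreeFive (Model)

namespace Cfsg.Agent.Fus.HSStab

/-- The rows of images of the cosets. -/
def tabs : List (List (ℕ × List ℕ)) := [tab0, tab1, tab2]

/-- An image of a coset. -/
def tabAt (g i : ℕ) : ℕ × List ℕ := (tabs.getD g []).getD i (0, [])

/-- The check of an image of a coset. -/
def chkCoset (g i : ℕ) : Bool :=
  Nat.blt (tabAt g i).1 50 && ((tabAt g i).2.all fun k => Nat.beq k 3 || Nat.beq k 4) &&
    Lie.UThreeFive.projEq (Lie.UThreeFive.evalW ((g + 3) :: repW.getD i []))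
      (Lie.UThreeFive.evalW (repW.getD (tabAt g i).1 [] ++ (tabAt g i).2))

theorem coset_ok : ∀ g < 3, ∀ i < 50, chkCoset g i = true := by decide +kernel

theorem rep_zero : repW.getD 0 [] = [] := rfl

section

variable {F : Type} [Field F] [Fintype F] {w : F} (M : Model w)

/-- The subgroup of index 50. -/
def subA : Subgroup (PSU 3 F 5) := Subgroup.closure {g | ∃ k ∈ [3, 4], g = M.E [k]}

theorem index_subA (hF : Fintype.card F = 25) :
    (subA M).index = 50 ∧ Subgroup.closure {g | ∃ k ∈ [3, 4, 5], g = M.E [k]} = ⊤ := by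
  classical
  have hF' : Fintype.card F = 5 ^ 2 := by rw [hF]; norm_num
  have : Finite (PSU 3 F 5) := inferInstance
  have : IsSimpleGroup (PSU 3 F 5) := Fus.UnitTv.isSimpleGroup_psu hF' le_rfl (by norm_num)
  obtain ⟨D⟩ := M.exists_data
  have hge : ∀ H : Subgroup (PSU 3 F 5), H ≠ ⊤ → 50 ≤ H.index := fun H hH =>
    Lie.SmallActionHeisenberg.index_ge D hH
  have h := Lie.UThreeFive.checkBasic_ok
  simp only [Lie.UThreeFive.checkBasic, Bool.and_eq_true, beq_iff_eq, Bool.not_eq_true', List.all_eq_true,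
    Bool.or_eq_true, Nat.beq_eq] at h
  obtain ⟨⟨⟨⟨⟨⟨-, h7⟩, n7⟩, h5⟩, n5⟩, w7⟩, w5⟩ := h
  have d7 := M.order_dvd (by norm_num : Nat.Prime 7) w7 h7 n7
  have d5 := M.order_dvd (by norm_num : Nat.Prime 5) w5 h5 n5
  have d8 := M.table_dvd Lie.UThreeFive.table8_ok (by norm_num)
  have d9 := M.table_dvd Lie.UThreeFive.table9_ok (by norm_num)
  have hd : 2520 ∣ Nat.card (subA M) :=
    show 7 * 5 * 8 * 9 ∣ _ from Nat.Coprime.mul_dvd_of_dvd_of_dvd (by norm_num)
      (Nat.Coprime.mul_dvd_of_dvd_of_dvd (by norm_num) (Nat.Coprime.mul_dvd_of_dvd_of_dvd (by norm_num) d7 d5) d8) d9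
  have hG : Nat.card (PSU 3 F 5) = 126000 := by
    have h := Cfsg.Agent.S0280.result hF' 3 (by norm_num)
    simp only [Finset.prod_range_succ, Finset.prod_range_zero] at h
    norm_num [show Nat.gcd 3 6 = 3 from rfl] at h
    rw [Nat.card_eq_fintype_card]
    omega
  have key : ∀ H : Subgroup (PSU 3 F 5), subA M ≤ H → H ≠ ⊤ → H = subA M ∧ H.index = 50 := by
    intro H hle hne
    have h1 := hge H hne
    have h2 := H.index_mul_card
    have h3 := Subgroup.card_le_of_le hle
    have h4 : 2520 ≤ Nat.card (subA M) := Nat.le_of_dvd Nat.card_pos hd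
    rw [hG] at h2
    have h5 : H.index = 50 ∧ Nat.card H = 2520 := by constructor <;> nlinarith
    exact ⟨(Subgroup.eq_of_le_of_card_ge hle (by omega)).symm, h5.1⟩
  have hne : subA M ≠ ⊤ := fun e => M.proper (show M.E [5] ∈ subA M from e ▸ Subgroup.mem_top _)
  refine ⟨(key _ le_rfl hne).2, by_contra fun hn => M.proper ?_⟩
  have hle : subA M ≤ Subgroup.closure {g | ∃ k ∈ [3, 4, 5], g = M.E [k]} :=
    Subgroup.closure_mono fun g ⟨k, hk, e⟩ => ⟨k, by simp only [List.mem_cons] at hk ⊢; tauto, e⟩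
  show M.E [5] ∈ subA M
  rw [← (key _ hle hn).1]
  exact Subgroup.subset_closure ⟨5, by simp, rfl⟩

theorem exists_phi (hF : Fintype.card F = 25) :
    ∃ φ : PSU 3 F 5 →* Equiv.Perm (Fin 50), Function.Injective φ ∧
      ∀ g < 3, ∀ i : Fin 50, (φ (M.E [g + 3]) i : ℕ) = (tabAt g i).1 := by
  classical
  have hF' : Fintype.card F = 5 ^ 2 := by rw [hF]; norm_num
  have : Finite (PSU 3 F 5) := inferInstance
  have : IsSimpleGroup (PSU 3 F 5) := Fus.UnitTv.isSimpleGroup_psu hF' le_rfl (by norm_num)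
  obtain ⟨hidx, hgen⟩ := index_subA M hF
  let c : Fin 50 → PSU 3 F 5 ⧸ subA M := fun i => (M.E (repW.getD i []) : PSU 3 F 5 ⧸ subA M)
  have hlt : ∀ g < 3, ∀ i : Fin 50, (tabAt g i).1 < 50 := fun g hg i => by
    have h := coset_ok g hg i i.2
    simp only [chkCoset, Bool.and_eq_true, Nat.blt_eq] at h
    exact h.1.1
  have hc : ∀ g (hg : g < 3) (i : Fin 50), M.E [g + 3] • c i = c ⟨_, hlt g hg i⟩ := by
    intro g hg i
    have h := coset_ok g hg i i.2
    simp only [chkCoset, Bool.and_eq_true, List.all_eq_true, Bool.or_eq_true, Nat.beq_eq] at h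
    obtain ⟨⟨-, ha⟩, he⟩ := h
    rw [← M.E_iff, M.E_cons, M.E_append] at he
    show ((M.E [g + 3] * M.E (repW.getD i []) : PSU 3 F 5) : PSU 3 F 5 ⧸ subA M) = c _
    rw [he]
    refine QuotientGroup.eq.2 ?_
    rw [mul_inv_rev, mul_assoc, inv_mul_cancel, mul_one]
    refine (subA M).inv_mem (M.E_mem [3, 4] _ fun k hk => ?_)
    rcases ha k hk with rfl | rfl <;> simp
  have h0 : c ⟨0, by norm_num⟩ = ((1 : PSU 3 F 5) : PSU 3 F 5 ⧸ subA M) := by
    show ((M.E (repW.getD 0 []) : PSU 3 F 5) : PSU 3 F 5 ⧸ subA M) = _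
    rw [rep_zero, M.E_nil]
  have hsurj : Function.Surjective c := by
    intro q
    induction q using QuotientGroup.induction_on with
    | _ y =>
      have : ∀ i, ∃ j, c j = y • c i := by
        refine Lie.UThreeFive.mem_of_left (P := fun y => ∀ i, ∃ j, c j = y • c i)
          (S := {g | ∃ k ∈ [3, 4, 5], g = M.E [k]}) (hgen ▸ Subgroup.mem_top _)
          (fun i => ⟨i, (one_smul _ _).symm⟩) ?_
        rintro x ⟨k, hk, rfl⟩ z hz i
        obtain ⟨j, hj⟩ := hz i
        obtain ⟨g, hg, rfl⟩ : ∃ g < 3, k = g + 3 := by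
          simp only [List.mem_cons, List.not_mem_nil, or_false] at hk
          rcases hk with rfl | rfl | rfl
          exacts [⟨0, by norm_num, rfl⟩, ⟨1, by norm_num, rfl⟩, ⟨2, by norm_num, rfl⟩]
        exact ⟨_, by rw [mul_smul, ← hj, hc g hg j]⟩
      obtain ⟨j, hj⟩ := this ⟨0, by norm_num⟩
      refine ⟨j, hj.trans ?_⟩
      rw [h0, MulAction.Quotient.smul_coe, smul_eq_mul, mul_one]
  have hbij : Function.Bijective c := (Nat.bijective_iff_surjective_and_card c).2
    ⟨hsurj, by rw [Nat.card_fin]; exact hidx.symm⟩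
  let e := Equiv.ofBijective c hbij
  let φ : PSU 3 F 5 →* Equiv.Perm (Fin 50) := MonoidHom.mk'
    (fun y => e.trans ((MulAction.toPerm y).trans e.symm)) fun y z => Equiv.ext fun i => by
      simp [Equiv.Perm.mul_apply, mul_smul]
  have hφ : ∀ g (hg : g < 3) (i : Fin 50), φ (M.E [g + 3]) i = ⟨_, hlt g hg i⟩ := fun g hg i => by
    show e.symm (M.E [g + 3] • c i) = _
    rw [hc g hg i]
    exact e.symm_apply_apply _
  refine ⟨φ, ?_, fun g hg i => by rw [hφ g hg i]⟩
  rw [← MonoidHom.ker_eq_bot_iff]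
  refine (φ.normal_ker.eq_bot_or_eq_top).resolve_right fun htop => M.proper ?_
  have h1 : φ (M.E [5]) = 1 := MonoidHom.mem_ker.1 (htop ▸ Subgroup.mem_top _)
  have h2 : e.symm (M.E [5] • c ⟨0, by norm_num⟩) = ⟨0, by norm_num⟩ := by
    show (φ (M.E [5])) ⟨0, by norm_num⟩ = _
    rw [h1]; rfl
  rw [Equiv.symm_apply_eq] at h2
  have h3 : M.E [5] • ((1 : PSU 3 F 5) : PSU 3 F 5 ⧸ subA M) = ((1 : PSU 3 F 5) : PSU 3 F 5 ⧸ subA M) := by
    rw [← h0]; exact h2
  rw [MulAction.Quotient.smul_coe, smul_eq_mul, mul_one, QuotientGroup.eq, mul_one] at h3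
  exact (subA M).inv_mem_iff.1 h3

end

/-- The standard vector among the 352. -/
def bY : leechLattice :=
  mkL [2, 2, 2, 2, 2, 0, 0, 2, 0, 0, 2, 0, 2, 0, 0, 0, 0, 0, 0, 0, 0, 0, 0, 0] (by decide +kernel)

theorem bY_norm : sqNorm (bY : Vec) = 32 := by decide +kernel

theorem bY_mem : bY ∈ shellTwo HSPairs.bU HSPairs.bW 16 (-24) :=
  ⟨bY_norm, by decide +kernel, by decide +kernel⟩

/-- Translating the shell. -/
theorem shell_eq (v w : leechLattice) : shellTwo v w 16 (-24) = shellTwo (-v) (v + w) (-16) (-8) := by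
  ext x
  show _ ∧ _ ∧ _ ↔ _ ∧ _ ∧ _
  have e1 : dotInt ((-v : leechLattice) : Vec) (x : Vec) = -dotInt (v : Vec) (x : Vec) := by
    simp [dotInt, Finset.sum_neg_distrib]
  have e2 : dotInt ((v + w : leechLattice) : Vec) (x : Vec) = dotInt (v : Vec) (x : Vec) + dotInt (w : Vec) (x : Vec) := by
    simp [dotInt, add_mul, Finset.sum_add_distrib]
  rw [e1, e2]
  exact and_congr_right fun _ => by omega

/-- The 352 vectors. -/
theorem shell352 {v w : leechLattice} (hv : sqNorm (v : Vec) = 48) (hw : sqNorm (w : Vec) = 48)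
    (hd : dotInt (v : Vec) (w : Vec) = -32) :
    (shellTwo v w 16 (-24)).ncard = 352 ∧ TransTwo v w (shellTwo v w 16 (-24)) := by
  have hu : sqNorm ((-v : leechLattice) : Vec) = 48 := by
    rw [← hv]; exact Finset.sum_congr rfl fun i _ => neg_sq _
  have hs : v + w ∈ shellOne (-v) (-16) := by
    refine ⟨?_, ?_⟩
    · have : sqNorm ((v + w : leechLattice) : Vec) = sqNorm (v : Vec) + 2 * dotInt (v : Vec) (w : Vec) + sqNorm (w : Vec) := by
        simp only [sqNorm, dotInt, Finset.mul_sum, ← Finset.sum_add_distrib]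
        exact Finset.sum_congr rfl fun i _ => by simp; ring
      rw [this, hv, hd, hw]; norm_num
    · have : dotInt ((-v : leechLattice) : Vec) ((v + w : leechLattice) : Vec) = -sqNorm (v : Vec) - dotInt (v : Vec) (w : Vec) := by
        simp only [sqNorm, dotInt, ← Finset.sum_neg_distrib, ← Finset.sum_sub_distrib]
        exact Finset.sum_congr rfl fun i _ => by simp; ring
      rw [this, hv, hd]; norm_num
  obtain ⟨hn, ht⟩ := ThreeOrbits.suborbit hu hs (d := -8) (std_two co3A_checks (by decide +kernel) (by decide +kernel))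
  rw [← shell_eq] at hn ht
  refine ⟨hn, fun x hx y hy => ?_⟩
  obtain ⟨g, g1, g2, g3⟩ := ht x hx y hy
  rw [co_neg, neg_inj] at g1
  have g2' : g • v + g • w = v + w := by rw [← g2]; exact (map_add (coHom g) v w).symm
  rw [g1, add_right_inj] at g2'
  exact ⟨g, g1, g2', g3⟩

/-- Apply a word to a packed vector, its last letter first. -/
def appL : List ℕ → ℕ → ℕ
  | [], X => X
  | s :: w, X => forceN (appL w X) fun Y => appWF (HSOut.opW.getD s []) Y

theorem appL_spec : ∀ w : List ℕ, (∀ s ∈ w, s < 3) → ∀ v : leechLattice, sqNorm (v : Vec) ≤ 64 →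
    appL w (encV v) = encV ((((ev HSOut.g w : ↥HSOut.H) : Co0) • v : leechLattice) : Vec)
  | [], _, v, _ => by simp [appL, ev]
  | s :: w, h, v, hv => by
    have hs : s < 3 := h s (List.mem_cons_self ..)
    have hmem : HSOut.opW.getD s [] ∈ HSOut.opW := by
      have hs' : s < HSOut.opW.length := by rw [show HSOut.opW.length = 3 from rfl]; exact hs
      rw [List.getD_eq_getElem _ _ hs']; exact List.getElem_mem _
    obtain ⟨hop, hwf⟩ := fixes_of_chk HSOut.op_gens hmem
    rw [appL, forceN_eq, appWF_eq, appL_spec w (fun t ht => h t (List.mem_cons_of_mem _ ht)) v hv,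
      appW_spec hop _ (by rw [co_norm]; exact hv), ev, Subgroup.coe_mul, mul_smul,
      show (HSOut.g s : Co0) = wordG (HSOut.opW.getD s []) by rw [HSOut.g, genW, dif_pos hwf]]

/-- The check of an element against a generator. -/
noncomputable def chkImage (g : ℕ) : Bool :=
  (fun w : List ℕ => (w.all fun t => Nat.blt t 3) &&
    Nat.beq (appL w 686053159114795291548769489506617938) 686053159114795291548769489506617938 &&
    (List.range 50).all fun p => Nat.beq (HSOut.actA.go w (embL.getD p 0)) (embL.getD (tabAt g p).1 0))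
    (kW.getD g [])

theorem image_ok : ∀ g < 3, chkImage g = true := by decide +kernel

theorem enc_bY : encV (bY : Vec) = 686053159114795291548769489506617938 := by decide +kernel

theorem emb_lt : ∀ p < 50, embL.getD p 0 < 100 := by decide +kernel

theorem emb_nodup : ((List.range 50).map fun p => embL.getD p 0).Nodup := by decide +kernel

/-- A point of a coset. -/
def emb (p : Fin 50) : Fin HSOut.actA.N := ⟨embL.getD p 0, emb_lt p p.2⟩

theorem emb_injective : Function.Injective emb := fun p q e => Fin.ext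
  (List.inj_on_of_nodup_map emb_nodup (List.mem_range.2 p.2) (List.mem_range.2 q.2) (congrArg Fin.val e))

/-- The stabiliser of the vector. -/
noncomputable abbrev K : Subgroup ↥HSOut.H := (MulAction.stabilizer Co0 bY).comap HSOut.H.subtype

theorem card_K : Nat.card K = 126000 := by
  obtain ⟨hn, ht⟩ := shell352 HSPairs.bU_norm HSPairs.bW_norm HSPairs.bUW
  have h := StabSimple.card_eq (MulAction.stabilizer Co0 HSPairs.bU ⊓ MulAction.stabilizer Co0 HSPairs.bW)
    bY 352 _ (by rw [orbit_shellTwo bY_mem ht, hn]) rfl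
  rw [← HSOut.H_eq, HSOut.card_H] at h
  have hK : Nat.card K = Nat.card ↥(HSOut.H ⊓ MulAction.stabilizer Co0 bY) := by
    rw [← Nat.card_congr (Subgroup.subgroupOfEquivOfLe (inf_le_left (a := HSOut.H)
      (b := MulAction.stabilizer Co0 bY))).toEquiv]
    congr 1
    have : (HSOut.H ⊓ MulAction.stabilizer Co0 bY).subgroupOf HSOut.H = K := by
      ext y
      exact ⟨fun hy => hy.2, fun hy => ⟨y.2, hy⟩⟩
    rw [this]
  rw [hK]
  omega

theorem nonempty_K (F : Type) [Field F] [Fintype F] (hF : Fintype.card F = 25) : Nonempty (PSU 3 F 5 ≃* K) := by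
  classical
  obtain ⟨w, ⟨M⟩⟩ := Lie.UThreeFive.exists_model hF
  have hF' : Fintype.card F = 5 ^ 2 := by rw [hF]; norm_num
  have : Finite (PSU 3 F 5) := inferInstance
  obtain ⟨φ, φinj, hφ⟩ := exists_phi M hF
  obtain ⟨-, hgen⟩ := index_subA M hF
  have hG : Nat.card (PSU 3 F 5) = 126000 := by
    have h := Cfsg.Agent.S0280.result hF' 3 (by norm_num)
    simp only [Finset.prod_range_succ, Finset.prod_range_zero] at h
    norm_num [show Nat.gcd 3 6 = 3 from rfl] at h
    rw [Nat.card_eq_fintype_card]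
    omega
  let Y : Subgroup (K × PSU 3 F 5) :=
    { carrier := {q | ∀ p, HSOut.pi (q.1 : ↥HSOut.H) (emb p) = emb (φ q.2 p)}
      one_mem' := fun p => by simp
      mul_mem' := fun {a b} ha hb p => by
        show HSOut.pi ((a.1 : ↥HSOut.H) * (b.1 : ↥HSOut.H)) (emb p) = emb (φ (a.2 * b.2) p)
        rw [map_mul, map_mul, Equiv.Perm.mul_apply, Equiv.Perm.mul_apply, hb p, ha]
      inv_mem' := fun {a} ha p => by
        show HSOut.pi ((a.1 : ↥HSOut.H)⁻¹) (emb p) = emb (φ a.2⁻¹ p)
        rw [map_inv, map_inv, Equiv.Perm.inv_eq_iff_eq, ha]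
        simp }
  let f1 : Y →* K := (MonoidHom.fst _ _).comp Y.subtype
  let f2 : Y →* PSU 3 F 5 := (MonoidHom.snd _ _).comp Y.subtype
  have hf1 : Function.Injective f1 := by
    intro a b e
    have e1 : (a.1).1 = (b.1).1 := e
    refine Subtype.ext (Prod.ext e1 (φinj (Equiv.ext fun p => emb_injective ?_)))
    rw [← a.2 p, ← b.2 p, e1]
  have hf2 : Function.Surjective f2 := by
    rw [← MonoidHom.range_eq_top, ← top_le_iff, ← hgen, Subgroup.closure_le]
    rintro _ ⟨k, hk, rfl⟩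
    obtain ⟨g, hg, rfl⟩ : ∃ g < 3, k = g + 3 := by
      simp only [List.mem_cons, List.not_mem_nil, or_false] at hk
      rcases hk with rfl | rfl | rfl
      exacts [⟨0, by norm_num, rfl⟩, ⟨1, by norm_num, rfl⟩, ⟨2, by norm_num, rfl⟩]
    have h := image_ok g hg
    simp only [chkImage, Bool.and_eq_true, List.all_eq_true, List.mem_range] at h
    obtain ⟨⟨hl, hfix⟩, himg⟩ := h
    have hl' : ∀ t ∈ kW.getD g [], t < 3 := fun t ht => Nat.le_of_ble_eq_true (hl t ht)
    have hst : ev HSOut.g (kW.getD g []) ∈ K := by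
      show ((ev HSOut.g (kW.getD g []) : ↥HSOut.H) : Co0) • bY = bY
      refine Subtype.ext (encV_inj (small_of_norm (by rw [co_norm, bY_norm]; norm_num))
        (small_of_norm (by rw [bY_norm]; norm_num)) ?_)
      rw [← appL_spec _ hl' bY (by rw [bY_norm]; norm_num), enc_bY]
      exact Nat.eq_of_beq_eq_true hfix
    refine ⟨⟨(⟨_, hst⟩, M.E [g + 3]), fun p => Fin.ext ?_⟩, rfl⟩
    show (HSOut.pi (ev HSOut.g (kW.getD g [])) (emb p) : ℕ) = embL.getD (φ (M.E [g + 3]) p : ℕ) 0
    rw [HSOut.homA.apply_ev _ hl', hφ g hg p]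
    exact Nat.eq_of_beq_eq_true (himg p p.2)
  have hY1 : Nat.card Y ≤ Nat.card K := Nat.card_le_card_of_injective f1 hf1
  have hY2 : Nat.card (PSU 3 F 5) ≤ Nat.card Y := Nat.card_le_card_of_surjective f2 hf2
  rw [card_K] at hY1
  rw [hG] at hY2
  have b1 : Function.Bijective f1 :=
    (Nat.bijective_iff_injective_and_card f1).2 ⟨hf1, by rw [card_K]; omega⟩
  have b2 : Function.Bijective f2 :=
    (Nat.bijective_iff_surjective_and_card f2).2 ⟨hf2, by rw [hG]; omega⟩
  exact ⟨(MulEquiv.ofBijective f2 b2).symm.trans (MulEquiv.ofBijective f1 b1)⟩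

theorem nonempty_stab {v w x : leechLattice} (hv : sqNorm (v : Vec) = 48) (hw : sqNorm (w : Vec) = 48)
    (hd : dotInt (v : Vec) (w : Vec) = -32) (hx : x ∈ shellTwo v w 16 (-24)) (F : Type) [Field F] [Fintype F]
    (hF : Fintype.card F = 25) :
    Nonempty (↥(MulAction.stabilizer Co0 v ⊓ MulAction.stabilizer Co0 w ⊓ MulAction.stabilizer Co0 x) ≃*
      PSU 3 F 5) := by
  obtain ⟨h0, e1, e2⟩ := HSPairs.to_pair hv hw hd
  obtain ⟨h, h1, h2, h3⟩ := step_two e1 e2 (shell352 HSPairs.bU_norm HSPairs.bW_norm HSPairs.bUW).2 hx bY_mem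
  obtain ⟨eK⟩ := nonempty_K F hF
  have hmem : ∀ y : Co0, y ∈ MulAction.stabilizer Co0 v ⊓ MulAction.stabilizer Co0 w ⊓ MulAction.stabilizer Co0 x ↔
      h * y * h⁻¹ ∈ HSOut.H ⊓ MulAction.stabilizer Co0 bY := fun y => by
    rw [HSOut.H_eq]
    simp only [Subgroup.mem_inf, MulAction.mem_stabilizer_iff, mul_smul, ← h1, ← h2, ← h3, inv_smul_smul,
      smul_left_cancel_iff]
  let e : ↥(MulAction.stabilizer Co0 v ⊓ MulAction.stabilizer Co0 w ⊓ MulAction.stabilizer Co0 x) ≃* ↥K :=
    { toFun := fun y => ⟨⟨h * y.1 * h⁻¹, ((hmem y.1).1 y.2).1⟩, ((hmem y.1).1 y.2).2⟩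
      invFun := fun k => ⟨h⁻¹ * (k.1 : Co0) * h, (hmem _).2 (by
        rw [show h * (h⁻¹ * (k.1 : Co0) * h) * h⁻¹ = (k.1 : Co0) by group]
        exact ⟨k.1.2, k.2⟩)⟩
      left_inv := fun y => Subtype.ext (by show h⁻¹ * (h * y.1 * h⁻¹) * h = y.1; group)
      right_inv := fun k => Subtype.ext (Subtype.ext (by show h * (h⁻¹ * (k.1 : Co0) * h) * h⁻¹ = k.1; group))
      map_mul' := fun a b => Subtype.ext (Subtype.ext (by
        show h * (a.1 * b.1) * h⁻¹ = (h * a.1 * h⁻¹) * (h * b.1 * h⁻¹); group)) }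
  exact ⟨e.trans eK.symm⟩

theorem closed {v w x : leechLattice} (hw : sqNorm (w : Vec) = 48) (hd : dotInt (v : Vec) (w : Vec) = -32)
    (hx : x ∈ shellTwo v w 16 (-24)) : -w - x ∈ shellTwo v w 16 (-24) := by
  obtain ⟨a, b, c⟩ := hx
  have e : ((-w - x : leechLattice) : Vec) = -(w : Vec) - (x : Vec) := rfl
  have k1 : sqNorm (-(w : Vec) - (x : Vec)) = sqNorm (w : Vec) + 2 * dotInt (w : Vec) (x : Vec) + sqNorm (x : Vec) := by
    simp only [sqNorm, dotInt, Finset.mul_sum, ← Finset.sum_add_distrib]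
    exact Finset.sum_congr rfl fun i _ => by simp; ring
  have k2 : ∀ u : Vec, dotInt u (-(w : Vec) - (x : Vec)) = -dotInt u (w : Vec) - dotInt u (x : Vec) := fun u => by
    simp only [dotInt, ← Finset.sum_neg_distrib, ← Finset.sum_sub_distrib]
    exact Finset.sum_congr rfl fun i _ => by simp; ring
  have k3 : dotInt (w : Vec) (w : Vec) = sqNorm (w : Vec) := Finset.sum_congr rfl fun i _ => (pow_two _).symm
  refine ⟨?_, ?_, ?_⟩ <;> rw [e]
  · rw [k1, hw, c, a]; norm_num
  · rw [k2, hd, b]; norm_num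
  · rw [k2, k3, hw, c]; norm_num

end Cfsg.Agent.Fus.HSStab
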